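import Cfsg.Agent.H774.X6.Wts

/-!
# The reflection character of type `E₇` and the sign twist (S4884, `E₇`)
-/

set_option autoImplicit false
set_option linter.unusedSectionVars false
set_option maxRecDepth 100000

namespace Cfsg.Agent.H774.X6

open Cfsg CoxeterSystem Cfsg.Agent.Tits.Core Cfsg.Agent.Tits.Exchange Cfsg.Agent.Tits.Roots
  Cfsg.Agent.ChevalleyStructure.CoxeterGeom Cfsg.Agent.ChevalleyStructure.CoxeterGeomTypes Cfsg.Agent.Nodes.StabComb
  Cfsg.Lie
open Cfsg.Agent.H439.CC (pf mu)

/-! ### fixed vectors -/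

theorem mu_rep_ne {G V : Type*} [Group G] [Finite G] [AddCommGroup V] [Module ℂ V] [FiniteDimensional ℂ V]
    (ρ : Representation ℂ G V) (P : Subgroup G) {v : V} (hv : v ≠ 0) (hfix : ∀ g ∈ P, ρ g v = v) :
    mu P ρ.character ≠ 0 := by
  classical
  have := Fintype.ofFinite P
  let σ : Representation ℂ P V := ρ.comp P.subtype
  have hinv : Invertible (Nat.card P : ℂ) := invertibleOfNonzero (by exact_mod_cast Nat.card_pos.ne')
  have h1 := Representation.card_inv_mul_sum_char_eq_finrank σ
  have h2 : mu P ρ.character = (Nat.card P : ℂ)⁻¹ * ∑ g : P, σ.character g := by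
    unfold mu
    rw [finsum_eq_sum_of_fintype]
    rfl
  rw [h2, h1]
  have h3 : 0 < Module.finrank ℂ (Representation.invariants σ) := by
    rw [Module.finrank_pos_iff_exists_ne_zero]
    refine ⟨⟨v, fun g => hfix g g.2⟩, fun h => hv (congrArg Subtype.val h)⟩
  exact_mod_cast h3.ne'

/-! ### the sign twist -/

theorem isIrr_eps {I W : Type*} [Fintype I] [DecidableEq I] [Group W] {M : CoxeterMatrix I} (cs : CoxeterSystem M W)
    {φ : W → ℂ} (hφ : IsIrrCharacter W φ) : IsIrrCharacter W (fun w => eps cs w * φ w) := by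
  obtain ⟨n, ρ, hρ, rfl⟩ := hφ
  let σ : Representation ℂ W (Fin n → ℂ) :=
    { toFun := fun w => eps cs w • ρ w
      map_one' := by rw [eps_one, one_smul, map_one]
      map_mul' := fun a b => by
        refine LinearMap.ext fun v => ?_
        change eps cs (a * b) • ρ (a * b) v = eps cs a • ρ a (eps cs b • ρ b v)
        rw [eps_mul, map_mul, map_smul, smul_smul]
        rfl }
  have hσ : ∀ w v, σ w v = eps cs w • ρ w v := fun w v => rfl
  have hne : ∀ w, eps cs w ≠ 0 := fun w h => by
    have := eps_mul_self cs w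
    rw [h, zero_mul] at this
    exact zero_ne_one this
  refine ⟨n, σ, ?_, ?_⟩
  · have hnt : Nontrivial (Subrepresentation σ) := by
      obtain ⟨a, b, hab⟩ := hρ.toNontrivial
      refine ⟨⟨a.toSubmodule, fun g v hv => a.toSubmodule.smul_mem _ (a.apply_mem_toSubmodule g hv)⟩,
        ⟨b.toSubmodule, fun g v hv => b.toSubmodule.smul_mem _ (b.apply_mem_toSubmodule g hv)⟩, fun h => hab ?_⟩
      apply Subrepresentation.toSubmodule_injective
      exact congrArg (Subrepresentation.toSubmodule (ρ := σ)) h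
    refine ⟨fun a => ?_⟩
    have key : ∀ (g : W) ⦃v : Fin n → ℂ⦄, v ∈ a.toSubmodule → ρ g v ∈ a.toSubmodule := by
      intro g v hv
      have h1 := a.apply_mem_toSubmodule g hv
      rw [hσ] at h1
      have h2 := a.toSubmodule.smul_mem (eps cs g)⁻¹ h1
      rwa [inv_smul_smul₀ (hne g)] at h2
    rcases hρ.eq_bot_or_eq_top ⟨a.toSubmodule, key⟩ with h | h
    · left
      apply Subrepresentation.toSubmodule_injective
      exact congrArg (Subrepresentation.toSubmodule (ρ := ρ)) h
    · right
      apply Subrepresentation.toSubmodule_injective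
      exact congrArg (Subrepresentation.toSubmodule (ρ := ρ)) h
  · funext w
    change LinearMap.trace ℂ _ (eps cs w • ρ w) = eps cs w * LinearMap.trace ℂ _ (ρ w)
    rw [map_smul, smul_eq_mul]

/-! ### the reflection representation -/

section Refl

variable {W : Type*} [Group W] (cs : CoxeterSystem CoxeterMatrix.E₇ W)

/-- the matrices over the integers -/
noncomputable def matZ : W →* Matrix (Fin 7) (Fin 7) ℤ :=
  (LinearMap.toMatrixAlgEquiv' : ((Fin 7 → ℤ) →ₗ[ℤ] (Fin 7 → ℤ)) ≃ₐ[ℤ] _).toAlgHom.toRingHom.toMonoidHom.comp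
    (rep cs isCartan_E7)

/-- the reflection representation over the complex numbers -/
noncomputable def rho7 : Representation ℂ W (Fin 7 → ℂ) :=
  (Matrix.toLinAlgEquiv' : Matrix (Fin 7) (Fin 7) ℂ ≃ₐ[ℂ] _).toAlgHom.toRingHom.toMonoidHom.comp
    (((Int.castRingHom ℂ).mapMatrix : Matrix (Fin 7) (Fin 7) ℤ →+* Matrix (Fin 7) (Fin 7) ℂ).toMonoidHom.comp (matZ cs))

theorem rho7_apply (w : W) (x : Fin 7 → ℂ) (i : Fin 7) :
    rho7 cs w x i = ∑ j, ((rep cs isCartan_E7 w (sr j) i : ℤ) : ℂ) * x j := by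
  rfl

/-- on integral vectors -/
theorem rho7_int (w : W) (x : Fin 7 → ℤ) : rho7 cs w (fun k => (x k : ℂ)) = fun k => ((rep cs isCartan_E7 w x k : ℤ) : ℂ) := by
  funext i
  rw [rho7_apply]
  have h1 : x = ∑ j, x j • (sr j : Fin 7 → ℤ) := by
    funext k
    simp [Finset.sum_apply, sr, Pi.single_apply]
  conv_rhs => rw [h1]
  rw [map_sum, Finset.sum_apply, Int.cast_sum]
  refine Finset.sum_congr rfl fun j _ => ?_
  rw [map_smul, Pi.smul_apply, smul_eq_mul, Int.cast_mul, mul_comm]

/-- the reflections -/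
theorem rho7_simple (i : Fin 7) (x : Fin 7 → ℂ) (k : Fin 7) :
    rho7 cs (cs.simple i) x k = x k - if k = i then ∑ j, (A7 i j : ℂ) * x j else 0 := by
  rw [rho7_apply]
  have h1 : ∀ j, ((rep cs isCartan_E7 (cs.simple i) (sr j) k : ℤ) : ℂ) =
      (if k = j then 1 else 0) - if k = i then (A7 i j : ℂ) else 0 := by
    intro j
    rw [rep_simple_eq, Pi.sub_apply, Pi.smul_apply, smul_eq_mul]
    have h2 : pairing A7 i (sr j) = A7 i j := by
      unfold pairing sr
      simp [Pi.single_apply]
    rw [h2]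
    unfold sr
    simp [Pi.single_apply]
  simp only [h1, sub_mul, ite_mul, one_mul, zero_mul, Finset.sum_sub_distrib, Finset.sum_ite_eq, Finset.mem_univ, if_true]
  congr 1
  by_cases hk : k = i
  · simp [hk]
  · simp [hk]

/-- twice the inverse of the Cartan matrix -/
def B7 : Fin 7 → Fin 7 → ℤ := ![![4, 4, 6, 8, 6, 4, 2], ![4, 7, 8, 12, 9, 6, 3], ![6, 8, 12, 16, 12, 8, 4],
  ![8, 12, 16, 24, 18, 12, 6], ![6, 9, 12, 18, 15, 10, 5], ![4, 6, 8, 12, 10, 8, 4], ![2, 3, 4, 6, 5, 4, 3]]

theorem B7_mul : ∀ k j, ∑ i, B7 k i * A7 i j = if k = j then 2 else 0 := by decide +kernel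

theorem exists_pair_ne {x : Fin 7 → ℂ} (hx : x ≠ 0) : ∃ i, ∑ j, (A7 i j : ℂ) * x j ≠ 0 := by
  by_contra hcon
  push Not at hcon
  apply hx
  funext k
  have h1 : ∑ i, (B7 k i : ℂ) * ∑ j, (A7 i j : ℂ) * x j = 2 * x k := by
    simp only [Finset.mul_sum]
    rw [Finset.sum_comm]
    have h2 : ∀ j, ∑ i, (B7 k i : ℂ) * ((A7 i j : ℂ) * x j) = (if k = j then 2 else 0) * x j := by
      intro j
      have h3 := congrArg (fun z : ℤ => (z : ℂ)) (B7_mul k j)
      simp only [Int.cast_sum, Int.cast_mul] at h3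
      rw [Finset.sum_congr rfl fun i _ => (mul_assoc (B7 k i : ℂ) (A7 i j : ℂ) (x j)).symm, ← Finset.sum_mul, h3]
      by_cases hk : k = j
      · simp [hk]
      · simp [hk]
    rw [Finset.sum_congr rfl fun j _ => h2 j]
    simp
  rw [Finset.sum_congr rfl fun i _ => by rw [hcon i, mul_zero], Finset.sum_const_zero] at h1
  have h4 : (2 : ℂ) ≠ 0 := two_ne_zero
  exact (mul_eq_zero.1 h1.symm).resolve_left h4

/-- **The reflection representation is irreducible.** -/
theorem rho7_irr : (rho7 cs).IsIrreducible := by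
  have hmain : ∀ a : Subrepresentation (rho7 cs), a.toSubmodule ≠ ⊥ → a.toSubmodule = ⊤ := by
    intro a ha
    obtain ⟨x, hx, hx0⟩ := (Submodule.ne_bot_iff _).1 ha
    let e : Fin 7 → Fin 7 → ℂ := fun i => Pi.single i 1
    have hsub : ∀ (i : Fin 7) (y : Fin 7 → ℂ), y ∈ a.toSubmodule → (∑ j, (A7 i j : ℂ) * y j) • e i ∈ a.toSubmodule := by
      intro i y hy
      have h1 := a.toSubmodule.sub_mem hy (a.apply_mem_toSubmodule (cs.simple i) hy)
      have h2 : y - rho7 cs (cs.simple i) y = (∑ j, (A7 i j : ℂ) * y j) • e i := by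
        funext k
        rw [Pi.sub_apply, rho7_simple, Pi.smul_apply, smul_eq_mul, sub_sub_cancel]
        by_cases hk : k = i
        · simp [e, hk]
        · simp [e, hk]
      rwa [h2] at h1
    have hstep : ∀ i j : Fin 7, A7 j i ≠ 0 → e i ∈ a.toSubmodule → e j ∈ a.toSubmodule := by
      intro i j hij hi
      have h1 := hsub j (e i) hi
      have h2 : ∑ k, (A7 j k : ℂ) * e i k = (A7 j i : ℂ) := by simp [e, Pi.single_apply]
      rw [h2] at h1
      have h3 := a.toSubmodule.smul_mem (A7 j i : ℂ)⁻¹ h1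
      rwa [inv_smul_smul₀ (by exact_mod_cast hij)] at h3
    obtain ⟨i, hi⟩ := exists_pair_ne hx0
    have hei : e i ∈ a.toSubmodule := by
      have h3 := a.toSubmodule.smul_mem (∑ j, (A7 i j : ℂ) * x j)⁻¹ (hsub i x hx)
      rwa [inv_smul_smul₀ hi] at h3
    have h3 : e 3 ∈ a.toSubmodule := by
      have key : ∀ i : Fin 7, e i ∈ a.toSubmodule → e 3 ∈ a.toSubmodule := by
        have k2 : e 2 ∈ a.toSubmodule → e 3 ∈ a.toSubmodule := hstep 2 3 (by decide +kernel)
        have k4 : e 4 ∈ a.toSubmodule → e 3 ∈ a.toSubmodule := hstep 4 3 (by decide +kernel)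
        have k5 : e 5 ∈ a.toSubmodule → e 3 ∈ a.toSubmodule := fun h => k4 (hstep 5 4 (by decide +kernel) h)
        intro i
        fin_cases i
        · exact fun h => k2 (hstep 0 2 (by decide +kernel) h)
        · exact hstep 1 3 (by decide +kernel)
        · exact k2
        · exact fun h => h
        · exact k4
        · exact k5
        · exact fun h => k5 (hstep 6 5 (by decide +kernel) h)
      exact key i hei
    have hall : ∀ i : Fin 7, e i ∈ a.toSubmodule := by
      have k2 : e 2 ∈ a.toSubmodule := hstep 3 2 (by decide +kernel) h3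
      have k4 : e 4 ∈ a.toSubmodule := hstep 3 4 (by decide +kernel) h3
      have k5 : e 5 ∈ a.toSubmodule := hstep 4 5 (by decide +kernel) k4
      intro i
      fin_cases i
      · exact hstep 2 0 (by decide +kernel) k2
      · exact hstep 3 1 (by decide +kernel) h3
      · exact k2
      · exact h3
      · exact k4
      · exact k5
      · exact hstep 5 6 (by decide +kernel) k5
    rw [eq_top_iff]
    intro y _
    have h4 : y = ∑ k, y k • e k := by
      funext j
      simp [e, Finset.sum_apply, Pi.single_apply]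
    rw [h4]
    exact Submodule.sum_mem _ fun k _ => a.toSubmodule.smul_mem _ (hall k)
  have hbt : (⊥ : Subrepresentation (rho7 cs)) ≠ ⊤ := by
    intro h
    have h1 := congrArg Subrepresentation.toSubmodule h
    have h2 : (⊥ : Submodule ℂ (Fin 7 → ℂ)) = ⊤ := h1
    exact bot_ne_top h2
  refine { exists_pair_ne := ⟨⊥, ⊤, hbt⟩, eq_bot_or_eq_top := fun a => ?_ }
  by_cases h : a.toSubmodule = ⊥
  · left
    exact Subrepresentation.toSubmodule_injective h
  · right
    exact Subrepresentation.toSubmodule_injective (hmain a h)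

theorem rho7_one : (rho7 cs).character 1 = 7 := by
  rw [Representation.char_one]
  simp

/-- the reflection character -/
theorem irr_rho7 : IsIrrCharacter W (rho7 cs).character :=
  Characters.Core.isIrrCharacter_of_rep _ (rho7_irr cs)

/-- `W(E₆)` fixes a vector -/
theorem mu_rho7 [Finite W] : mu (P6 cs) (rho7 cs).character ≠ 0 := by
  refine mu_rep_ne (rho7 cs) (P6 cs) (v := fun k => (p7 k : ℂ)) ?_ ?_
  · intro h
    have h1 := congrFun h 0
    have h2 : (p7 0 : ℂ) = 2 := by
      have : p7 0 = 2 := rfl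
      rw [this]
      norm_num
    rw [h2] at h1
    exact two_ne_zero h1
  · intro g hg
    rw [rho7_int, (mem_P6_iff cs).1 hg]

end Refl

end Cfsg.Agent.H774.X6
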