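import Cfsg.Agent.H167.AltBldg
import Cfsg.Agent.H774.CC.Newton

/-!
# The formula of Solomon for the parabolic subgroups of a finite Coxeter group (S4884, E₇)

`solomon` : `∑_{K ⊆ T} (-1)^|K| 1_{W_K}^W = ε 1_{W_T}^W`, `ε(w) = (-1)^{ℓ(w)}`;
`sum_mu` : the same for multiplicities.
-/

set_option autoImplicit false
set_option linter.unusedSectionVars false

namespace Cfsg.Agent.H774.X6

open Cfsg CoxeterSystem Cfsg.Agent.Tits.Core Cfsg.Agent.Tits.Core.Bldg Cfsg.Agent.Tits.Exchange
  Cfsg.Agent.H167.AltTrace Cfsg.Agent.H167.AltBldg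
open Cfsg.Agent.H439.CC (pf mu)

variable {I W : Type*} [Fintype I] [DecidableEq I] [Group W] {M : CoxeterMatrix I} (cs : CoxeterSystem M W)

/-! ### the sign -/

/-- the sign -/
noncomputable def eps (w : W) : ℂ := (-1) ^ cs.length w

theorem eps_mul (v w : W) : eps cs (v * w) = eps cs v * eps cs w := by
  unfold eps
  rw [← pow_add]
  have h1 := cs.length_mul_mod_two v w
  rw [neg_one_pow_eq_pow_mod_two, h1, ← neg_one_pow_eq_pow_mod_two]

theorem eps_one : eps cs 1 = 1 := by
  unfold eps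
  rw [cs.length_one, pow_zero]

theorem eps_mul_self (w : W) : eps cs w * eps cs w = 1 := by
  unfold eps
  rw [← pow_add, ← two_mul, pow_mul, neg_one_sq, one_pow]

theorem eps_inv (w : W) : eps cs w⁻¹ = eps cs w := by
  unfold eps
  rw [cs.length_inv]

theorem eps_simple (i : I) : eps cs (cs.simple i) = -1 := by
  unfold eps
  rw [cs.length_simple, pow_one]

/-! ### the thin building -/

/-- The thin building. -/
def thin : Bldg cs W where
  δ x y := x⁻¹ * y
  eq_one x y := inv_mul_eq_one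
  symm x y := by group
  step x y z i h := by
    left
    rw [inv_mul_eq_iff_eq_mul] at h
    rw [h, mul_assoc]
  step_lt x y z i h _ := by
    rw [inv_mul_eq_iff_eq_mul] at h
    rw [h, mul_assoc]
  exists_step x y i := ⟨y * cs.simple i, by group, by group⟩

/-- the system of the residues -/
noncomputable def sy (T : Finset I) : Sys W T :=
  resSys (thin cs) T (fun x => x) (fun _ _ h => h) (fun _ y _ => ⟨y, rfl⟩) 1

theorem sy_r (T K : Finset I) (x y : W) : (sy cs T).r K x y ↔ x⁻¹ * y ∈ WJ cs (K : Set I) := Iff.rfl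

theorem sy_hr (T : Finset I) : ∀ K, K ⊆ T → ∀ (g x y : W), (sy cs T).r K x y → (sy cs T).r K (g • x) (g • y) := by
  intro K _ g x y h
  rw [sy_r] at h ⊢
  rw [smul_eq_mul, smul_eq_mul]
  rwa [show (g * x)⁻¹ * (g * y) = x⁻¹ * y by group]

/-- the fixed residues -/
theorem card_sy {T K : Finset I} (hK : K ⊆ T) (g : W) :
    Nat.card {x // K ⊆ (sy cs T).N x ∧ (sy cs T).r K x (g • x)} = pf (WJ cs (K : Set I)) g := by
  unfold pf
  refine Nat.card_congr (Equiv.ofBijective (fun x => ⟨(x.1 : W ⧸ WJ cs (K : Set I)), ?_⟩) ⟨?_, ?_⟩)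
  · have h1 := x.2.2
    rw [sy_r] at h1
    change ((g * x.1 : W) : W ⧸ WJ cs (K : Set I)) = _
    exact (QuotientGroup.eq.2 h1).symm
  · intro x y e
    have h1 : ((x.1 : W) : W ⧸ WJ cs (K : Set I)) = (y.1 : W) := congrArg Subtype.val e
    exact Subtype.ext ((sy cs T).gate_unique hK x.2.1 y.2.1 (QuotientGroup.eq.1 h1))
  · rintro ⟨y, hy⟩
    induction y using QuotientGroup.induction_on with
    | H a =>
      obtain ⟨b, hb, hbN⟩ := (sy cs T).gate K hK a
      have h1 : ((b : W) : W ⧸ WJ cs (K : Set I)) = a := (QuotientGroup.eq.2 hb).symm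
      refine ⟨⟨b, hbN, ?_⟩, Subtype.ext h1⟩
      rw [← h1] at hy
      rw [sy_r]
      exact QuotientGroup.eq.1 (Eq.symm hy)

section fin

variable [Fintype W]

/-- the functions changing their sign -/
theorem mem_harm_iff (T : Finset I) (f : W → ℂ) :
    f ∈ (sy cs T).harm ↔ ∀ t ∈ T, ∀ x, f x + f (x * cs.simple t) = 0 := by
  classical
  rw [Sys.mem_harm]
  refine forall_congr' fun t => forall_congr' fun ht => forall_congr' fun x => ?_
  have h1 : ∀ y, (sy cs T).r {t} x y ↔ y = x ∨ y = x * cs.simple t := by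
    intro y
    rw [sy_r, Finset.coe_singleton, mem_WJ_singleton, inv_mul_eq_iff_eq_mul, inv_mul_eq_iff_eq_mul,
      mul_one]
  have h2 : x ≠ x * cs.simple t := by
    intro e
    have h3 := cs.length_simple t
    rw [mul_eq_left.1 e.symm, cs.length_one] at h3
    exact absurd h3 (by decide)
  have h3 : ∑ y, (if (sy cs T).r {t} x y then f y else 0) = f x + f (x * cs.simple t) := by
    rw [← Finset.sum_pair h2, ← Finset.sum_filter]
    refine Finset.sum_congr ?_ fun _ _ => rfl
    ext y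
    simp only [Finset.mem_filter, Finset.mem_univ, true_and, Finset.mem_insert, Finset.mem_singleton]
    exact h1 y
  rw [h3]

/-- multiplication with the sign -/
noncomputable def sgM : (W → ℂ) →ₗ[ℂ] (W → ℂ) where
  toFun f := fun x => eps cs x * f x
  map_add' f g := by
    funext x
    exact mul_add _ _ _
  map_smul' c f := by
    funext x
    change eps cs x * (c * f x) = c * (eps cs x * f x)
    ring

theorem sgM_apply (f : W → ℂ) (x : W) : sgM cs f x = eps cs x * f x := rfl

theorem sgM_sgM (f : W → ℂ) : sgM cs (sgM cs f) = f := by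
  funext x
  rw [sgM_apply, sgM_apply, ← mul_assoc, eps_mul_self, one_mul]

theorem mem_V_iff (T : Finset I) (f : W → ℂ) : f ∈ (sy cs T).V T ↔ ∀ t ∈ T, ∀ x, f (x * cs.simple t) = f x := by
  rw [Sys.mem_V]
  constructor
  · intro h t ht x
    refine (h x _ ?_).symm
    rw [sy_r, inv_mul_cancel_left]
    exact simple_mem_WJ cs (Finset.mem_coe.2 ht)
  · intro h
    have h1 : ∀ w ∈ WJ cs (T : Set I), ∀ x, f (x * w) = f x := by
      intro w hw
      unfold WJ at hw
      induction hw using Subgroup.closure_induction with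
      | mem w hw =>
        obtain ⟨t, ht, rfl⟩ := hw
        exact h t ht
      | one => intro x; rw [mul_one]
      | mul a b _ _ ha hb => intro x; rw [← mul_assoc, hb, ha]
      | inv a _ ha => intro x; rw [← ha (x * a⁻¹), inv_mul_cancel_right]
    intro x y hxy
    rw [sy_r] at hxy
    have := h1 _ hxy x
    rw [mul_inv_cancel_left] at this
    exact this.symm

theorem sgM_mem_harm {T : Finset I} {f : W → ℂ} (hf : f ∈ (sy cs T).V T) : sgM cs f ∈ (sy cs T).harm := by
  rw [mem_harm_iff]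
  rw [mem_V_iff] at hf
  intro t ht x
  rw [sgM_apply, sgM_apply, eps_mul, eps_simple, hf t ht x]
  ring

theorem sgM_mem_V {T : Finset I} {f : W → ℂ} (hf : f ∈ (sy cs T).harm) : sgM cs f ∈ (sy cs T).V T := by
  rw [mem_V_iff]
  rw [mem_harm_iff] at hf
  intro t ht x
  rw [sgM_apply, sgM_apply, eps_mul, eps_simple, eq_neg_of_add_eq_zero_right (hf t ht x)]
  ring

/-- the isomorphism -/
noncomputable def eqv (T : Finset I) : (sy cs T).V T ≃ₗ[ℂ] (sy cs T).harm where
  toFun f := ⟨sgM cs f.1, sgM_mem_harm cs f.2⟩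
  map_add' f g := Subtype.ext (map_add _ _ _)
  map_smul' c f := Subtype.ext (map_smul _ _ _)
  invFun f := ⟨sgM cs f.1, sgM_mem_V cs f.2⟩
  left_inv f := Subtype.ext (sgM_sgM cs _)
  right_inv f := Subtype.ext (sgM_sgM cs _)

/-- **The formula of Solomon** -/
theorem solomon (T : Finset I) (g : W) :
    ∑ K ∈ T.powerset, (-1 : ℂ) ^ K.card * (pf (WJ cs (K : Set I)) g : ℂ) = eps cs g * (pf (WJ cs (T : Set I)) g : ℂ) := by
  have h1 := (sy cs T).trace_harm (sy_hr cs T) g
  have h2 : ∑ K ∈ T.powerset, (-1 : ℂ) ^ K.card * (pf (WJ cs (K : Set I)) g : ℂ) =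
      ∑ K ∈ T.powerset, (-1 : ℂ) ^ K.card * (Nat.card {x // K ⊆ (sy cs T).N x ∧ (sy cs T).r K x (g • x)} : ℂ) :=
    Finset.sum_congr rfl fun K hK => by rw [card_sy cs (Finset.mem_powerset.1 hK)]
  rw [h2, ← h1, ← card_sy cs (Finset.Subset.refl T) g, ← (sy cs T).trace_V' (sy_hr cs T) (Finset.Subset.refl T) g]
  rw [← LinearMap.trace_conj' _ (eqv cs T), ← smul_eq_mul, ← map_smul]
  congr 1
  refine LinearMap.ext fun f => ?_
  apply Subtype.ext
  funext x
  change f.1 (g⁻¹ • x) = eps cs g * (eps cs x * (eps cs (g⁻¹ • x) * f.1 (g⁻¹ • x)))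
  rw [smul_eq_mul, eps_mul, eps_inv]
  linear_combination (-f.1 (g⁻¹ * x)) * (eps_mul_self cs g) - (eps cs g * eps cs g) * f.1 (g⁻¹ * x) * (eps_mul_self cs x)

theorem isClassFunction_eps_mul {φ : W → ℂ} (hφ : IsClassFunction W φ) : IsClassFunction W (fun w => eps cs w * φ w) := by
  intro g x
  change eps cs (x * g * x⁻¹) * φ (x * g * x⁻¹) = eps cs g * φ g
  rw [hφ, eps_mul, eps_mul, eps_inv]
  linear_combination (eps cs g * φ g) * (eps_mul_self cs x)

/-- the formula for multiplicities -/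
theorem sum_mu (T : Finset I) {φ : W → ℂ} (hφ : IsClassFunction W φ) :
    ∑ K ∈ T.powerset, (-1 : ℂ) ^ K.card * mu (WJ cs (K : Set I)) φ = mu (WJ cs (T : Set I)) (fun w => eps cs w * φ w) := by
  rw [CC.mu_eq_sum _ _ (isClassFunction_eps_mul cs hφ)]
  have h1 : ∀ K : Finset I, (-1 : ℂ) ^ K.card * mu (WJ cs (K : Set I)) φ =
      (Fintype.card W : ℂ)⁻¹ * ∑ g : W, ((-1 : ℂ) ^ K.card * (pf (WJ cs (K : Set I)) g : ℂ)) * φ g := by
    intro K
    rw [CC.mu_eq_sum _ _ hφ, Finset.mul_sum, Finset.mul_sum, Finset.mul_sum]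
    exact Finset.sum_congr rfl fun g _ => by ring
  rw [Finset.sum_congr rfl fun K _ => h1 K, ← Finset.mul_sum, Finset.sum_comm]
  congr 1
  refine Finset.sum_congr rfl fun g _ => ?_
  rw [← Finset.sum_mul, solomon]
  ring

end fin

end Cfsg.Agent.H774.X6
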